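import Cfsg.Agent.H755.PF.Core

/-!
# Involutions of `SL_n(F)` and adapted bases (helper755)
-/

set_option autoImplicit false

namespace Cfsg.Agent.H755.PF

open Matrix

variable {F : Type*} [Field F] {n : ℕ}

/-- the matrix of an involution -/
theorem exists_basis (h2 : (2 : F) ≠ 0) {g : SpecialLinearGroup (Fin n) F} (hg : g * g = 1) :
    ∃ (k l : ℕ) (b : Module.Basis (Fin k ⊕ Fin l) F (Fin n → F)), k + l = n ∧ mat b g = fromBlocks (-1) 0 0 1 := by
  let T : (Fin n → F) →ₗ[F] (Fin n → F) := Matrix.toLin' g.1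
  have hT : ∀ v, T (T v) = v := by
    intro v
    have h1 : (g * g).1 = (1 : Matrix (Fin n) (Fin n) F) := congrArg Subtype.val hg
    have h3 : g.1 * g.1 = 1 := h1
    show Matrix.toLin' g.1 (Matrix.toLin' g.1 v) = v
    rw [← LinearMap.comp_apply, ← Matrix.toLin'_mul, h3, Matrix.toLin'_one, LinearMap.id_apply]
  let E : Submodule F (Fin n → F) := LinearMap.ker (T + 1)
  let E' : Submodule F (Fin n → F) := LinearMap.ker (T - 1)
  have hE : ∀ v, v ∈ E ↔ T v = -v := by
    intro v
    rw [LinearMap.mem_ker, LinearMap.add_apply, Module.End.one_apply, add_eq_zero_iff_eq_neg]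
  have hE' : ∀ v, v ∈ E' ↔ T v = v := by
    intro v
    rw [LinearMap.mem_ker, LinearMap.sub_apply, Module.End.one_apply, sub_eq_zero]
  have hc : IsCompl E E' := by
    refine IsCompl.of_eq ?_ ?_
    · rw [eq_bot_iff]
      intro v hv
      obtain ⟨h1, h3⟩ := Submodule.mem_inf.1 hv
      rw [hE] at h1
      rw [hE', h1] at h3
      have h4 : (2 : F) • v = 0 := by
        rw [two_smul]
        nth_rewrite 1 [← h3]
        exact neg_add_cancel v
      exact (Submodule.mem_bot F).2 ((smul_eq_zero.1 h4).resolve_left h2)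
    · rw [eq_top_iff]
      intro v _
      rw [Submodule.mem_sup]
      refine ⟨(2 : F)⁻¹ • (v - T v), ?_, (2 : F)⁻¹ • (v + T v), ?_, ?_⟩
      · rw [hE, map_smul, map_sub, hT, ← smul_neg, neg_sub]
      · rw [hE', map_smul, map_add, hT, add_comm]
      · rw [← smul_add, sub_add_add_cancel, ← two_smul F v, smul_smul, inv_mul_cancel₀ h2, one_smul]
  let b0 : Module.Basis (Fin (Module.finrank F E) ⊕ Fin (Module.finrank F E')) F (E × E') :=
    (Module.finBasis F E).prod (Module.finBasis F E')
  let b := b0.map (Submodule.prodEquivOfIsCompl E E' hc)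
  have hl : ∀ i, T (b (Sum.inl i)) = -b (Sum.inl i) := by
    intro i
    have h1 : b (Sum.inl i) = ((Module.finBasis F E i : E) : Fin n → F) := by
      show Submodule.prodEquivOfIsCompl E E' hc (b0 (Sum.inl i)) = _
      rw [Submodule.coe_prodEquivOfIsCompl']
      simp [b0]
    rw [h1]
    exact (hE _).1 (Module.finBasis F E i).2
  have hr : ∀ i, T (b (Sum.inr i)) = b (Sum.inr i) := by
    intro i
    have h1 : b (Sum.inr i) = ((Module.finBasis F E' i : E') : Fin n → F) := by
      show Submodule.prodEquivOfIsCompl E E' hc (b0 (Sum.inr i)) = _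
      rw [Submodule.coe_prodEquivOfIsCompl']
      simp [b0]
    rw [h1]
    exact (hE' _).1 (Module.finBasis F E' i).2
  refine ⟨_, _, b, ?_, ?_⟩
  · have h1 := Submodule.finrank_add_eq_of_isCompl hc
    rw [Module.finrank_fin_fun] at h1
    exact h1
  · unfold mat
    have h1 : Matrix.toLin' g.1 = Matrix.toLin b b (fromBlocks (-1) 0 0 1) := by
      apply b.ext
      intro i
      rw [Matrix.toLin_self]
      rcases i with i | i
      · rw [Fintype.sum_sum_type]
        have h3 : T (b (Sum.inl i)) = -b (Sum.inl i) := hl i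
        show T (b (Sum.inl i)) = _
        rw [h3]
        simp [Matrix.one_apply]
      · rw [Fintype.sum_sum_type]
        have h3 : T (b (Sum.inr i)) = b (Sum.inr i) := hr i
        show T (b (Sum.inr i)) = _
        rw [h3]
        simp [Matrix.one_apply]
    rw [h1, LinearMap.toMatrix_toLin]

variable {k l : ℕ}

/-- commuting with the involution -/
theorem bd_of_commute (h2 : (2 : F) ≠ 0) {g : SpecialLinearGroup (Fin n) F} {b : Module.Basis (Fin k ⊕ Fin l) F (Fin n → F)}
    (hb : mat b g = fromBlocks (-1) 0 0 1) {x : SpecialLinearGroup (Fin n) F} (hx : x * g = g * x) : BD b x := by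
  have h1 := congrArg (mat b) hx
  rw [mat_mul, mat_mul, hb, ← fromBlocks_toBlocks (mat b x), fromBlocks_multiply, fromBlocks_multiply,
    fromBlocks_inj] at h1
  obtain ⟨-, h12, h21, -⟩ := h1
  have h3 : (mat b x).toBlocks₁₂ = 0 := by
    ext i j
    have h4 := congrFun (congrFun h12 i) j
    simp at h4
    have h5 : (2 : F) * (mat b x).toBlocks₁₂ i j = 0 := by
      rw [two_mul]
      nth_rewrite 1 [h4]
      exact neg_add_cancel _
    exact (mul_eq_zero.1 h5).resolve_left h2
  have h4 : (mat b x).toBlocks₂₁ = 0 := by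
    ext i j
    have h4 := congrFun (congrFun h21 i) j
    simp at h4
    have h5 : (2 : F) * (mat b x).toBlocks₂₁ i j = 0 := by
      rw [two_mul]
      nth_rewrite 1 [← h4]
      exact neg_add_cancel _
    exact (mul_eq_zero.1 h5).resolve_left h2
  refine ⟨(mat b x).toBlocks₁₁, (mat b x).toBlocks₂₂, ?_⟩
  conv_lhs => rw [← fromBlocks_toBlocks (mat b x), h3, h4]

theorem commute_of_bd {g : SpecialLinearGroup (Fin n) F} {b : Module.Basis (Fin k ⊕ Fin l) F (Fin n → F)}
    (hb : mat b g = fromBlocks (-1) 0 0 1) {x : SpecialLinearGroup (Fin n) F} (hx : BD b x) : x * g = g * x := by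
  obtain ⟨A, D, h⟩ := hx
  apply mat_injective b
  rw [mat_mul, mat_mul, hb, h, fromBlocks_multiply, fromBlocks_multiply]
  simp

/-- the basis with the two parts interchanged -/
noncomputable def swp (b : Module.Basis (Fin k ⊕ Fin l) F (Fin n → F)) : Module.Basis (Fin l ⊕ Fin k) F (Fin n → F) :=
  b.reindex (Equiv.sumComm _ _)

theorem mat_swp (b : Module.Basis (Fin k ⊕ Fin l) F (Fin n → F)) (x : SpecialLinearGroup (Fin n) F) {A B C D}
    (h : mat b x = fromBlocks A B C D) : mat (swp b) x = fromBlocks D C B A := by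
  have h1 : ∀ i j, mat (swp b) x i j = mat b x ((Equiv.sumComm _ _).symm i) ((Equiv.sumComm _ _).symm j) := by
    intro i j
    unfold mat swp
    rw [LinearMap.toMatrix_apply, LinearMap.toMatrix_apply, Module.Basis.reindex_apply, Module.Basis.repr_reindex_apply]
  ext i j
  rw [h1, h]
  rcases i with i | i <;> rcases j with j | j <;> rfl

theorem swp_swp (b : Module.Basis (Fin k ⊕ Fin l) F (Fin n → F)) : swp (swp b) = b := by
  apply Module.Basis.eq_of_apply_eq
  intro i
  rcases i with i | i <;> simp [swp]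

theorem bd_swp {b : Module.Basis (Fin k ⊕ Fin l) F (Fin n → F)} {x : SpecialLinearGroup (Fin n) F} (h : BD (swp b) x) :
    BD b x := by
  obtain ⟨A, D, h⟩ := h
  have h1 := mat_swp (swp b) x h
  rw [swp_swp] at h1
  exact ⟨D, A, h1⟩

theorem swp_bd {b : Module.Basis (Fin k ⊕ Fin l) F (Fin n → F)} {x : SpecialLinearGroup (Fin n) F} (h : BD b x) :
    BD (swp b) x := by
  obtain ⟨A, D, h⟩ := h
  exact ⟨D, A, mat_swp b x h⟩

end Cfsg.Agent.H755.PF
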