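import Cfsg.Agent.S2540
import Cfsg.Agent.S0248
import Cfsg.Agent.S0249

/-!
# Normalised subgroups of `SL_n(F)` and blocks (helper755)

`V = F^n` with a basis `b` indexed by `κ ⊕ Fin l`; `jmap b : SL_l(F) → SL_n(F)` the block subgroup.
`core` : a subgroup `N` of `SL_n(F)` normalised by the block diagonal elements, not containing the block `SL_l(F)`, `l ≥ 3`:
its block diagonal elements are scalar on the block.
-/

set_option autoImplicit false

namespace Cfsg.Agent.H755.PF

open Matrix
open Cfsg.Agent.S2540 (conjSL)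

variable {F : Type*} [Field F] {n : ℕ} {κ : Type*} [Fintype κ] [DecidableEq κ] {l : ℕ}

/-- the matrix of `x` with respect to `b` -/
noncomputable def mat {ι : Type*} [Fintype ι] [DecidableEq ι] (b : Module.Basis ι F (Fin n → F))
    (x : SpecialLinearGroup (Fin n) F) : Matrix ι ι F :=
  LinearMap.toMatrix b b (Matrix.toLin' (x : Matrix (Fin n) (Fin n) F))

section mat

variable {ι : Type*} [Fintype ι] [DecidableEq ι] (b : Module.Basis ι F (Fin n → F))

theorem mat_mul (x y : SpecialLinearGroup (Fin n) F) : mat b (x * y) = mat b x * mat b y := by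
  show LinearMap.toMatrix b b (Matrix.toLin' (x.1 * y.1)) = _
  rw [Matrix.toLin'_mul, LinearMap.toMatrix_comp b b b]
  rfl

theorem mat_one : mat b (1 : SpecialLinearGroup (Fin n) F) = 1 := by
  show LinearMap.toMatrix b b (Matrix.toLin' (1 : Matrix (Fin n) (Fin n) F)) = _
  rw [Matrix.toLin'_one, LinearMap.toMatrix_id]

theorem mat_injective {x y : SpecialLinearGroup (Fin n) F} (h : mat b x = mat b y) : x = y := by
  apply Subtype.ext
  exact Matrix.toLin'.injective ((LinearMap.toMatrix b b).injective h)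

theorem det_mat (x : SpecialLinearGroup (Fin n) F) : (mat b x).det = 1 := by
  unfold mat
  rw [LinearMap.det_toMatrix, LinearMap.det_toLin', x.det_coe]

/-- the element with a given matrix -/
noncomputable def ofMat (M : Matrix ι ι F) (hM : M.det = 1) : SpecialLinearGroup (Fin n) F :=
  ⟨LinearMap.toMatrix' (Matrix.toLin b b M), by rw [LinearMap.det_toMatrix', LinearMap.det_toLin, hM]⟩

theorem mat_ofMat (M : Matrix ι ι F) (hM : M.det = 1) : mat b (ofMat b M hM) = M := by
  unfold mat ofMat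
  show LinearMap.toMatrix b b (Matrix.toLin' (LinearMap.toMatrix' (Matrix.toLin b b M))) = M
  rw [Matrix.toLin'_toMatrix', LinearMap.toMatrix_toLin]

theorem mat_inv_mul (x : SpecialLinearGroup (Fin n) F) : mat b x⁻¹ * mat b x = 1 := by
  rw [← mat_mul, inv_mul_cancel, mat_one]

theorem mat_mul_inv (x : SpecialLinearGroup (Fin n) F) : mat b x * mat b x⁻¹ = 1 := by
  rw [← mat_mul, mul_inv_cancel, mat_one]

end mat

/-- the block `SL_l(F)` -/
noncomputable def jmap (b : Module.Basis (κ ⊕ Fin l) F (Fin n → F)) (Y : SpecialLinearGroup (Fin l) F) :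
    SpecialLinearGroup (Fin n) F :=
  ofMat b (fromBlocks 1 0 0 (Y : Matrix (Fin l) (Fin l) F)) (by
    rw [Matrix.det_fromBlocks_zero₁₂, Matrix.det_one, one_mul, Y.det_coe])

theorem mat_jmap (b : Module.Basis (κ ⊕ Fin l) F (Fin n → F)) (Y : SpecialLinearGroup (Fin l) F) :
    mat b (jmap b Y) = fromBlocks 1 0 0 (Y : Matrix (Fin l) (Fin l) F) := mat_ofMat b _ _

theorem jmap_mul (b : Module.Basis (κ ⊕ Fin l) F (Fin n → F)) (Y Z : SpecialLinearGroup (Fin l) F) :
    jmap b (Y * Z) = jmap b Y * jmap b Z := by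
  apply mat_injective b
  rw [mat_mul, mat_jmap, mat_jmap, mat_jmap, fromBlocks_multiply]
  have h1 : ((Y * Z : SpecialLinearGroup (Fin l) F) : Matrix (Fin l) (Fin l) F) = Y.1 * Z.1 := rfl
  rw [h1]
  simp

theorem jmap_one (b : Module.Basis (κ ⊕ Fin l) F (Fin n → F)) :
    jmap b (1 : SpecialLinearGroup (Fin l) F) = 1 := by
  apply mat_injective b
  rw [mat_jmap, mat_one]
  exact fromBlocks_one

theorem jmap_inv (b : Module.Basis (κ ⊕ Fin l) F (Fin n → F)) (Y : SpecialLinearGroup (Fin l) F) :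
    jmap b Y⁻¹ = (jmap b Y)⁻¹ := by
  rw [eq_inv_iff_mul_eq_one, ← jmap_mul, inv_mul_cancel, jmap_one]

theorem jmap_injective (b : Module.Basis (κ ⊕ Fin l) F (Fin n → F)) {Y Z : SpecialLinearGroup (Fin l) F}
    (h : jmap b Y = jmap b Z) : Y = Z := by
  have h1 := congrArg (mat b) h
  rw [mat_jmap, mat_jmap, fromBlocks_inj] at h1
  exact Subtype.ext h1.2.2.2

/-- block diagonal elements -/
def BD (b : Module.Basis (κ ⊕ Fin l) F (Fin n → F)) (x : SpecialLinearGroup (Fin n) F) : Prop :=
  ∃ (A : Matrix κ κ F) (D : Matrix (Fin l) (Fin l) F), mat b x = fromBlocks A 0 0 D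

theorem bd_jmap (b : Module.Basis (κ ⊕ Fin l) F (Fin n → F)) (Y : SpecialLinearGroup (Fin l) F) : BD b (jmap b Y) :=
  ⟨_, _, mat_jmap b Y⟩

/-- **the block lemma** -/
theorem core (b : Module.Basis (κ ⊕ Fin l) F (Fin n → F)) (hl : 3 ≤ l) (N : Subgroup (SpecialLinearGroup (Fin n) F))
    (hN : ∀ c, BD b c → ∀ x ∈ N, c * x * c⁻¹ ∈ N) (hj : ∃ Y, jmap b Y ∉ N)
    {x : SpecialLinearGroup (Fin n) F} (hx : x ∈ N) {A : Matrix κ κ F} {D : Matrix (Fin l) (Fin l) F}
    (hxm : mat b x = fromBlocks A 0 0 D) : ∃ c : F, D = c • (1 : Matrix (Fin l) (Fin l) F) := by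
  have hperf : commutator (SpecialLinearGroup (Fin l) F) = ⊤ := S0248.result l hl
  have hsimple : IsSimpleGroup (ProjectiveSpecialLinearGroup (Fin l) F) := S0249.result l hl
  -- the intersection with the block
  let M : Subgroup (SpecialLinearGroup (Fin l) F) :=
    { carrier := {Y | jmap b Y ∈ N}
      one_mem' := by
        show jmap b 1 ∈ N
        rw [jmap_one]
        exact N.one_mem
      mul_mem' := by
        intro Y Z hY hZ
        show jmap b (Y * Z) ∈ N
        rw [jmap_mul]
        exact N.mul_mem hY hZ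
      inv_mem' := by
        intro Y hY
        show jmap b Y⁻¹ ∈ N
        rw [jmap_inv]
        exact N.inv_mem hY }
  have hM : M.Normal := by
    refine ⟨fun Y hY Z => ?_⟩
    show jmap b (Z * Y * Z⁻¹) ∈ N
    rw [jmap_mul, jmap_mul, jmap_inv]
    exact hN _ (bd_jmap b Z) _ hY
  have hMc : M ≤ Subgroup.center (SpecialLinearGroup (Fin l) F) := by
    rcases S2540.normal_dichotomy hperf hsimple M with h | h
    · exact h
    · exfalso
      obtain ⟨Y, hY⟩ := hj
      apply hY
      have : Y ∈ M := by rw [h]; trivial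
      exact this
  -- `D` is invertible
  have hdet : A.det * D.det = 1 := by
    have h1 := det_mat b x
    rw [hxm, det_fromBlocks_zero₁₂] at h1
    exact h1
  have hD : IsUnit D.det := IsUnit.of_mul_eq_one_right A.det hdet
  let d : GL (Fin l) F := Matrix.nonsingInvUnit D hD
  have hd : (d : Matrix (Fin l) (Fin l) F) = D := rfl
  have hconj : ∀ s : SpecialLinearGroup (Fin l) F, x * jmap b s = jmap b (conjSL d s) * x := by
    intro s
    apply mat_injective b
    rw [mat_mul, mat_mul, mat_jmap, mat_jmap, hxm, fromBlocks_multiply, fromBlocks_multiply]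
    have h1 : (conjSL d s : Matrix (Fin l) (Fin l) F) * D = D * (s : Matrix (Fin l) (Fin l) F) := by
      show (d : Matrix (Fin l) (Fin l) F) * (s : Matrix (Fin l) (Fin l) F) * ((d⁻¹ : GL (Fin l) F) : Matrix (Fin l) (Fin l) F) * D = _
      have h2 : ((d⁻¹ : GL (Fin l) F) : Matrix (Fin l) (Fin l) F) * D = 1 := by
        rw [← hd, ← Units.val_mul, inv_mul_cancel, Units.val_one]
      rw [mul_assoc, h2, mul_one, hd]
    rw [h1]
    simp
  apply S2540.scalar_of_commutator_central hperf d
  intro s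
  apply hMc
  show jmap b (conjSL d s * s⁻¹) ∈ N
  rw [jmap_mul, jmap_inv]
  have h1 : jmap b (conjSL d s) * (jmap b s)⁻¹ = x * (jmap b s * x⁻¹ * (jmap b s)⁻¹) := by
    calc jmap b (conjSL d s) * (jmap b s)⁻¹ = (jmap b (conjSL d s) * x) * x⁻¹ * (jmap b s)⁻¹ := by group
      _ = (x * jmap b s) * x⁻¹ * (jmap b s)⁻¹ := by rw [hconj]
      _ = _ := by group
  rw [h1]
  exact N.mul_mem hx (hN _ (bd_jmap b s) _ (N.inv_mem hx))

end Cfsg.Agent.H755.PF
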