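import Cfsg.Agent.H755.PF.LemY

/-!
# The `D₄` configuration does not occur in `PSL_n(q)`, `n ≥ 6`, `q` odd (helper755)
-/

set_option autoImplicit false

namespace Cfsg.Agent.H755.PF

open Matrix Subgroup
open Cfsg Cfsg.Agent.H751.Big

variable {F : Type*} [Field F] {n : ℕ}

/-- the action on vectors -/
def act (x : SpecialLinearGroup (Fin n) F) : (Fin n → F) →ₗ[F] (Fin n → F) := Matrix.toLin' x.1

theorem act_mul (x y : SpecialLinearGroup (Fin n) F) (v : Fin n → F) : act (x * y) v = act x (act y v) := by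
  show Matrix.toLin' (x.1 * y.1) v = _
  rw [Matrix.toLin'_mul]
  rfl

theorem act_one (v : Fin n → F) : act (1 : SpecialLinearGroup (Fin n) F) v = v := by
  show Matrix.toLin' (1 : Matrix (Fin n) (Fin n) F) v = v
  rw [Matrix.toLin'_one, LinearMap.id_apply]

theorem act_ext {x y : SpecialLinearGroup (Fin n) F} (h : ∀ v, act x v = act y v) : x = y := by
  apply Subtype.ext
  apply Matrix.toLin'.injective
  exact LinearMap.ext h

theorem act_ne {x : SpecialLinearGroup (Fin n) F} {v : Fin n → F} (hv : v ≠ 0) : act x v ≠ 0 := by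
  intro h
  apply hv
  rw [← act_one v, ← inv_mul_cancel x, act_mul, h, map_zero]

theorem act_center {c : SpecialLinearGroup (Fin n) F} (hc : c ∈ center (SpecialLinearGroup (Fin n) F)) :
    ∃ e : F, ∀ v, act c v = e • v := by
  obtain ⟨r, -, hr⟩ := Matrix.SpecialLinearGroup.mem_center_iff.1 hc
  refine ⟨r, fun v => ?_⟩
  show Matrix.toLin' c.1 v = _
  have h3 : c.1 = r • (1 : Matrix (Fin n) (Fin n) F) := by
    rw [← hr, Matrix.smul_one_eq_diagonal]
    rfl
  rw [h3, map_smul, Matrix.toLin'_one, LinearMap.smul_apply, LinearMap.id_apply]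

/-- the `(-1)`-eigenspace -/
def Em (x : SpecialLinearGroup (Fin n) F) : Submodule F (Fin n → F) := LinearMap.ker (act x + 1)

theorem mem_Em {x : SpecialLinearGroup (Fin n) F} {v : Fin n → F} : v ∈ Em x ↔ act x v = -v := by
  unfold Em
  rw [LinearMap.mem_ker, LinearMap.add_apply, Module.End.one_apply, add_eq_zero_iff_eq_neg]

/-- standard involutions -/
def Std (x : SpecialLinearGroup (Fin n) F) : Prop := x * x = 1 ∧ Module.finrank F (Em x) = 2

theorem finrank_Em (h2 : (2 : F) ≠ 0) {k l : ℕ} {b : Module.Basis (Fin k ⊕ Fin l) F (Fin n → F)}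
    {g : SpecialLinearGroup (Fin n) F} (hb : mat b g = fromBlocks (-1) 0 0 1) : Module.finrank F (Em g) = k := by
  have hact : ∀ i, act g (b i) = Matrix.toLin b b (fromBlocks (-1) 0 0 1) (b i) := by
    intro i
    rw [← hb]
    unfold mat
    rw [Matrix.toLin_toMatrix]
    rfl
  have hl : ∀ i, act g (b (Sum.inl i)) = -b (Sum.inl i) := by
    intro i
    rw [hact, Matrix.toLin_self, Fintype.sum_sum_type]
    simp [Matrix.one_apply]
  have hr : ∀ i, act g (b (Sum.inr i)) = b (Sum.inr i) := by
    intro i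
    rw [hact, Matrix.toLin_self, Fintype.sum_sum_type]
    simp [Matrix.one_apply]
  have hspan : Em g = Submodule.span F (Set.range fun i : Fin k => b (Sum.inl i)) := by
    apply le_antisymm
    · intro v hv
      rw [mem_Em] at hv
      have h1 : v = ∑ i, b.repr v (Sum.inl i) • b (Sum.inl i) + ∑ i, b.repr v (Sum.inr i) • b (Sum.inr i) := by
        conv_lhs => rw [← b.sum_repr v, Fintype.sum_sum_type]
      have h3 : act g v = -∑ i, b.repr v (Sum.inl i) • b (Sum.inl i) + ∑ i, b.repr v (Sum.inr i) • b (Sum.inr i) := by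
        conv_lhs => rw [h1]
        rw [map_add, map_sum, map_sum, ← Finset.sum_neg_distrib]
        congr 1
        · apply Finset.sum_congr rfl
          intro i _
          rw [map_smul, hl, smul_neg]
        · apply Finset.sum_congr rfl
          intro i _
          rw [map_smul, hr]
      rw [hv] at h3
      have h4 : (2 : F) • ∑ i, b.repr v (Sum.inr i) • b (Sum.inr i) = 0 := by
        have aux : ∀ L R w : Fin n → F, w = L + R → -w = -L + R → (2 : F) • R = 0 := by
          intro L R w e1 e2
          rw [two_smul]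
          calc R + R = (L + R) + (-L + R) := by abel
            _ = w + -w := by rw [← e1, ← e2]
            _ = 0 := add_neg_cancel w
        exact aux _ _ v h1 h3
      have h5 := (smul_eq_zero.1 h4).resolve_left h2
      rw [h1, h5, add_zero]
      exact Submodule.sum_mem _ fun i _ => Submodule.smul_mem _ _ (Submodule.subset_span ⟨i, rfl⟩)
    · rw [Submodule.span_le]
      rintro _ ⟨i, rfl⟩
      exact mem_Em.2 (hl i)
  rw [hspan, finrank_span_eq_card, Fintype.card_fin]
  exact b.linearIndependent.comp _ Sum.inl_injective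

theorem std_of_mat (h2 : (2 : F) ≠ 0) {l : ℕ} {b : Module.Basis (Fin 2 ⊕ Fin l) F (Fin n → F)}
    {g : SpecialLinearGroup (Fin n) F} (hb : mat b g = fromBlocks (-1) 0 0 1) : Std g := by
  refine ⟨?_, finrank_Em h2 hb⟩
  apply mat_injective b
  rw [mat_mul, mat_one, hb, fromBlocks_multiply, ← fromBlocks_one]
  simp

theorem Std.conj {g : SpecialLinearGroup (Fin n) F} (h : Std g) (x : SpecialLinearGroup (Fin n) F) :
    Std (x * g * x⁻¹) := by
  refine ⟨?_, ?_⟩
  · calc x * g * x⁻¹ * (x * g * x⁻¹) = x * (g * g) * x⁻¹ := by group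
      _ = 1 := by rw [h.1]; group
  · rw [← h.2]
    let e : (Fin n → F) ≃ₗ[F] (Fin n → F) := LinearEquiv.ofLinearMap (act x) (act x⁻¹)
      (LinearMap.ext fun v => by
        show act x (act x⁻¹ v) = v
        rw [← act_mul, mul_inv_cancel, act_one])
      (LinearMap.ext fun v => by
        show act x⁻¹ (act x v) = v
        rw [← act_mul, inv_mul_cancel, act_one])
    have h1 : Em (x * g * x⁻¹) = (Em g).map (e : (Fin n → F) →ₗ[F] (Fin n → F)) := by
      ext v
      rw [mem_Em, Submodule.mem_map]
      constructor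
      · intro hv
        refine ⟨act x⁻¹ v, ?_, ?_⟩
        · rw [mem_Em, ← map_neg, ← hv, ← act_mul, ← act_mul]
          congr 2
          group
        · show act x (act x⁻¹ v) = v
          rw [← act_mul, mul_inv_cancel, act_one]
      · rintro ⟨w, hw, rfl⟩
        rw [mem_Em] at hw
        show act (x * g * x⁻¹) (act x w) = -act x w
        rw [← map_neg, ← hw, ← act_mul, ← act_mul]
        congr 2
        group
    rw [h1]
    exact LinearEquiv.finrank_map_eq e (Em g)

/-- the lift of a standard involution is unique -/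
theorem Std.unique (h2 : (2 : F) ≠ 0) (hn : 5 ≤ n) {g g' : SpecialLinearGroup (Fin n) F} (h : Std g) (h' : Std g')
    (he : (g : ProjectiveSpecialLinearGroup (Fin n) F) = g') : g = g' := by
  obtain ⟨c, hc, rfl⟩ := mk_eq_iff'.1 he
  obtain ⟨k, l, b, hkl, hb⟩ := exists_basis h2 h.1
  have hk : k = 2 := by rw [← finrank_Em h2 hb, h.2]
  subst hk
  obtain ⟨e, hce⟩ := mat_of_center b hc
  have hc' : ∀ y, y * c = c * y := mem_center_iff.1 hc
  have hcc : c * c = 1 := by
    have h3 := h'.1
    have h4 : g * c * (g * c) = (g * g) * (c * c) := by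
      calc g * c * (g * c) = g * (c * g) * c := by group
        _ = g * (g * c) * c := by rw [hc' g]
        _ = (g * g) * (c * c) := by group
    rw [h4, h.1, one_mul] at h3
    exact h3
  have hee : e * e = 1 := by
    have h3 := congrArg (mat b) hcc
    rw [mat_mul, mat_one, hce] at h3
    have h4 := congrFun (congrFun h3 (Sum.inl 0)) (Sum.inl 0)
    simpa using h4
  rcases mul_self_eq_one_iff.1 hee with h3 | h3
  · have hc1 : c = 1 := by
      apply mat_injective b
      rw [hce, h3, one_smul, mat_one]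
    rw [hc1, mul_one]
  · exfalso
    have h4 : mat b (g * c) = fromBlocks 1 0 0 (-1) := by
      rw [mat_mul, hce, hb, h3, ← fromBlocks_one, fromBlocks_smul, fromBlocks_multiply]
      simp
    have h5 := finrank_Em h2 (mat_swp b (g * c) h4)
    rw [h'.2] at h5
    omega

section Main

variable (h2 : (2 : F) ≠ 0)

include h2

/-- In the `(-1)`-eigenspace of `g`: the elements over a good quaternion group anticommute. -/
theorem no_vec {g g' a b : SpecialLinearGroup (Fin n) F} (hg : Std g) (hg' : g' * g' = 1)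
    (hgg' : g * g' = g' * g) (hag : a * g = g * a) (hbg : b * g = g * b) (hab : a * b = g * (b * a))
    (hag' : a * g' = g' * a) (hbg' : b * g' = g' * b) (hne : Em g ≠ Em g') (hrk : Module.finrank F (Em g') = 2)
    {v : Fin n → F} (hv : act g v = -v) (hv' : act g' v = -v) : v = 0 := by
  by_contra hv0
  -- some vector of `Em g` fixed by `g'`
  have h1 : ∃ w, act g w = -w ∧ act g' w = w ∧ w ≠ 0 := by
    by_contra hno
    push Not at hno
    apply hne
    apply Submodule.eq_of_le_of_finrank_eq
    · intro u hu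
      rw [mem_Em] at hu ⊢
      have h3 : u + act g' u = 0 := by
        apply hno
        · rw [map_add, hu, ← act_mul, hgg', act_mul, hu, map_neg]
          abel
        · rw [map_add, ← act_mul, hg', act_one, add_comm]
      exact eq_neg_of_add_eq_zero_right h3
    · rw [hg.2, hrk]
  obtain ⟨w, hw, hw', hw0⟩ := h1
  -- `Em g` is spanned by `v` and `w`
  have hind : LinearIndependent F ![v, w] := by
    rw [LinearIndependent.pair_iff]
    intro s t hst
    have h3 := congrArg (act g') hst
    rw [map_add, map_smul, map_smul, hv', hw', map_zero] at h3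
    have h4 : (2 : F) • (s • v) = 0 := by
      rw [two_smul]
      have h5 : s • v + t • w - (s • -v + t • w) = 0 := by rw [hst, h3, sub_zero]
      rw [smul_neg] at h5
      calc s • v + s • v = s • v + t • w - (-(s • v) + t • w) := by abel
        _ = 0 := h5
    have h5 : s = 0 := by
      rcases smul_eq_zero.1 ((smul_eq_zero.1 h4).resolve_left h2) with h6 | h6
      · exact h6
      · exact absurd h6 hv0
    rw [h5, zero_smul, zero_add] at hst
    exact ⟨h5, (smul_eq_zero.1 hst).resolve_right hw0⟩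
  have hspan : ∀ u, act g u = -u → ∃ s t : F, u = s • v + t • w := by
    intro u hu
    have h3 : Submodule.span F (Set.range ![v, w]) = Em g := by
      apply Submodule.eq_of_le_of_finrank_eq
      · rw [Submodule.span_le]
        rintro _ ⟨i, rfl⟩
        fin_cases i
        · exact mem_Em.2 hv
        · exact mem_Em.2 hw
      · rw [finrank_span_eq_card hind, Fintype.card_fin, hg.2]
    have h4 : u ∈ Submodule.span F (Set.range ![v, w]) := by
      rw [h3]
      exact mem_Em.2 hu
    rw [Matrix.range_cons, Matrix.range_cons, Matrix.range_empty, Set.union_empty, Set.singleton_union,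
      Submodule.mem_span_pair] at h4
    obtain ⟨s, t, hst⟩ := h4
    exact ⟨s, t, hst.symm⟩
  -- `a` and `b` act on `v` as scalars
  have hsc : ∀ x : SpecialLinearGroup (Fin n) F, x * g = g * x → x * g' = g' * x → ∃ s : F, act x v = s • v := by
    intro x hx hx'
    have h3 : act g (act x v) = -act x v := by rw [← act_mul, ← hx, act_mul, hv, map_neg]
    have h4 : act g' (act x v) = -act x v := by rw [← act_mul, ← hx', act_mul, hv', map_neg]
    obtain ⟨s, t, hst⟩ := hspan _ h3
    refine ⟨s, ?_⟩
    rw [hst, map_add, map_smul, map_smul, hv', hw'] at h4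
    have h5 : (2 : F) • (t • w) = 0 := by
      rw [two_smul]
      calc t • w + t • w = (s • -v + t • w) - (-(s • v + t • w)) := by rw [smul_neg]; abel
        _ = 0 := by rw [h4, sub_self]
    rw [hst, (smul_eq_zero.1 h5).resolve_left h2, add_zero]
  obtain ⟨s, hs⟩ := hsc a hag hag'
  obtain ⟨t, ht⟩ := hsc b hbg hbg'
  have h3 : act (a * b) v = (s * t) • v := by
    rw [act_mul, ht, map_smul, hs, smul_smul, mul_comm]
  have h4 : act (g * (b * a)) v = -((s * t) • v) := by
    rw [act_mul, act_mul, hs, map_smul, map_smul, ht, map_smul, hv, smul_neg, smul_neg, smul_smul]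
  rw [hab, h4] at h3
  have h5 : (2 : F) • ((s * t) • v) = 0 := by
    rw [two_smul]
    nth_rewrite 1 [← h3]
    exact neg_add_cancel _
  have h6 := (smul_eq_zero.1 h5).resolve_left h2
  have hs0 : s ≠ 0 := by
    rintro rfl
    exact act_ne (x := a) hv0 (by rw [hs, zero_smul])
  have ht0 : t ≠ 0 := by
    rintro rfl
    exact act_ne (x := b) hv0 (by rw [ht, zero_smul])
  rcases smul_eq_zero.1 h6 with h7 | h7
  · exact mul_ne_zero hs0 ht0 h7
  · exact hv0 h7


/-- an element is determined by its values on both eigenspaces of an involution -/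
theorem ext_eig {g x y : SpecialLinearGroup (Fin n) F} (hg : g * g = 1) (h1 : ∀ v, act g v = -v → act x v = act y v)
    (h3 : ∀ v, act g v = v → act x v = act y v) : x = y := by
  apply act_ext
  intro v
  have hgv : act g (act g v) = v := by rw [← act_mul, hg, act_one]
  have e1 := h1 (v - act g v) (by rw [map_sub, hgv, neg_sub])
  have e2 := h3 (v + act g v) (by rw [map_add, hgv, add_comm])
  rw [map_sub, map_sub] at e1
  rw [map_add, map_add] at e2
  have h4 : (2 : F) • act x v = (2 : F) • act y v := by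
    rw [two_smul, two_smul]
    calc act x v + act x v = (act x v - act x (act g v)) + (act x v + act x (act g v)) := by abel
      _ = (act y v - act y (act g v)) + (act y v + act y (act g v)) := by rw [e1, e2]
      _ = act y v + act y v := by abel
  exact smul_right_injective _ h2 h4

theorem zero_of_neg {v : Fin n → F} (h : v = -v) : v = 0 := by
  have h4 : (2 : F) • v = 0 := by
    rw [two_smul]
    nth_rewrite 1 [h]
    exact neg_add_cancel v
  exact (smul_eq_zero.1 h4).resolve_left h2

theorem Em_ne {g g' : SpecialLinearGroup (Fin n) F} (hg : g * g = 1) (hg' : g' * g' = 1) (hgg' : g * g' = g' * g)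
    (hne : g ≠ g') : Em g ≠ Em g' := by
  intro he
  apply hne
  apply ext_eig h2 hg
  · intro v hv
    have h3 : v ∈ Em g' := by rw [← he]; exact mem_Em.2 hv
    rw [hv, mem_Em.1 h3]
  · intro v hv
    have h3 : v - act g' v ∈ Em g := by
      rw [he, mem_Em, map_sub, ← act_mul, hg', act_one, neg_sub]
    rw [mem_Em, map_sub, ← act_mul, hgg', act_mul, hv] at h3
    have h4 := zero_of_neg h2 h3
    rw [hv]
    exact sub_eq_zero.1 h4

/-- the linear algebra -/
theorem false_of_lin {g : Fin 3 → SpecialLinearGroup (Fin n) F} {r : SpecialLinearGroup (Fin n) F}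
    {P : Fin 3 → SpecialLinearGroup (Fin n) F → Prop} (hg : ∀ i, Std (g i)) (hr : Std r)
    (hne : ∀ i j, i ≠ j → g i ≠ g j) (hgg : ∀ i j, g i * g j = g j * g i) (hrg : ∀ i, r * g i = g i * r)
    (hP : ∀ i x, P i x → x * g i = g i * x ∧ ∃ c : F, ∀ v, act (g i) v = v → act x v = c • v)
    (hPj : ∀ i j, i ≠ j → ∀ x, P i x → x * g j = g j * x)
    (hab : ∀ i, ∃ a b, P i a ∧ P i b ∧ a * b = g i * (b * a)) (hnc : ∀ i, ∃ x, P i x ∧ r * x ≠ x * r) : False := by
  have hfix : ∀ i j, i ≠ j → ∀ v, act (g i) v = -v → act (g j) v = v := by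
    intro i j hij v hv
    obtain ⟨a, b, ha, hb, hab⟩ := hab i
    have h3 : v - act (g j) v = 0 := by
      apply no_vec h2 (hg i) (hg j).1 (hgg i j) (hP i a ha).1 (hP i b hb).1 hab (hPj i j hij a ha) (hPj i j hij b hb)
        (Em_ne h2 (hg i).1 (hg j).1 (hgg i j) (hne i j hij)) (hg j).2
      · rw [map_sub, ← act_mul, hgg, act_mul, hv, map_neg]
        abel
      · rw [map_sub, ← act_mul, (hg j).1, act_one, neg_sub]
    exact (sub_eq_zero.1 h3).symm
  have hvec : ∀ i, ∃ v, v ≠ 0 ∧ act (g i) v = -v ∧ act r v = -v := by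
    intro i
    by_contra hno
    push Not at hno
    have h3 : ∀ v, act (g i) v = -v → act r v = v := by
      intro v hv
      by_contra hrv
      apply hno (v - act r v) (fun h => hrv (sub_eq_zero.1 h).symm)
      · rw [map_sub, ← act_mul, ← hrg, act_mul, hv, map_neg]
        abel
      · rw [map_sub, ← act_mul, hr.1, act_one, neg_sub]
    obtain ⟨x, hx, hxr⟩ := hnc i
    apply hxr
    obtain ⟨hxg, c, hc⟩ := hP i x hx
    apply ext_eig h2 (hg i).1
    · intro v hv
      rw [act_mul, act_mul, h3 v hv, h3]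
      rw [← act_mul, ← hxg, act_mul, hv, map_neg]
    · intro v hv
      rw [act_mul, act_mul, hc v hv, hc, map_smul]
      rw [← act_mul, ← hrg, act_mul, hv]
  choose v hv0 hvg hvr using hvec
  have hind : LinearIndependent F v := by
    rw [Fintype.linearIndependent_iff]
    intro a ha j
    have h3 := congrArg (fun w => w - act (g j) w) ha
    simp only [map_zero, sub_zero] at h3
    rw [map_sum, ← Finset.sum_sub_distrib, Finset.sum_eq_single j] at h3
    · rw [map_smul, hvg, smul_neg, sub_neg_eq_add, ← two_smul F] at h3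
      have h4 := (smul_eq_zero.1 h3).resolve_left h2
      exact (smul_eq_zero.1 h4).resolve_right (hv0 j)
    · intro i _ hij
      rw [map_smul, hfix i j hij _ (hvg i), sub_self]
    · intro h
      exact absurd (Finset.mem_univ j) h
  have h3 : Submodule.span F (Set.range v) ≤ Em r := by
    rw [Submodule.span_le]
    rintro _ ⟨i, rfl⟩
    exact mem_Em.2 (hvr i)
  have h4 := Submodule.finrank_mono h3
  rw [finrank_span_eq_card hind, hr.2, Fintype.card_fin] at h4
  omega

end Main

/-- Lemma Y with vectors -/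
theorem lemYv [Finite F] (hn : 6 ≤ n) (h2 : (2 : F) ≠ 0) {Q : Subgroup (ProjectiveSpecialLinearGroup (Fin n) F)}
    {z : ProjectiveSpecialLinearGroup (Fin n) F} (h : Good Q z)
    (hK : ∃ K : Subgroup (ProjectiveSpecialLinearGroup (Fin n) F), Q ≤ K ∧ K ≤ centralizer {z} ∧
      (∀ c ∈ centralizer ({z} : Set (ProjectiveSpecialLinearGroup (Fin n) F)), ∀ x ∈ K, c * x * c⁻¹ ∈ K) ∧
      ∀ t ∈ K, orderOf t = 2 → t = z) :
    ∃ g : SpecialLinearGroup (Fin n) F, (g : ProjectiveSpecialLinearGroup (Fin n) F) = z ∧ Std g ∧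
      (∃ w, w ≠ 0 ∧ act g w = w) ∧
      ∀ x : SpecialLinearGroup (Fin n) F, (x : ProjectiveSpecialLinearGroup (Fin n) F) ∈ Q →
        x * g = g * x ∧ ∃ c : F, ∀ v, act g v = v → act x v = c • v := by
  obtain ⟨g, l, b, hl, hgz, hb, hQ⟩ := lemY hn h2 h hK
  have hact : ∀ (x : SpecialLinearGroup (Fin n) F) i, act x (b i) = Matrix.toLin b b (mat b x) (b i) := by
    intro x i
    unfold mat
    rw [Matrix.toLin_toMatrix]
    rfl
  have hgl : ∀ i, act g (b (Sum.inl i)) = -b (Sum.inl i) := by
    intro i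
    rw [hact, hb, Matrix.toLin_self, Fintype.sum_sum_type]
    simp [Matrix.one_apply]
  have hgr : ∀ i, act g (b (Sum.inr i)) = b (Sum.inr i) := by
    intro i
    rw [hact, hb, Matrix.toLin_self, Fintype.sum_sum_type]
    simp [Matrix.one_apply]
  refine ⟨g, hgz, std_of_mat h2 hb, ⟨b (Sum.inr ⟨0, by omega⟩), b.ne_zero _, hgr _⟩, fun x hx => ?_⟩
  obtain ⟨A, c, hA⟩ := hQ x hx
  refine ⟨commute_of_bd hb ⟨_, _, hA⟩, c, fun v hv => ?_⟩
  have hxr : ∀ i, act x (b (Sum.inr i)) = c • b (Sum.inr i) := by
    intro i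
    rw [hact, hA, Matrix.toLin_self, Fintype.sum_sum_type]
    simp [Matrix.one_apply]
  have h1 : v = ∑ i, b.repr v (Sum.inl i) • b (Sum.inl i) + ∑ i, b.repr v (Sum.inr i) • b (Sum.inr i) := by
    conv_lhs => rw [← b.sum_repr v, Fintype.sum_sum_type]
  have h3 : act g v = -∑ i, b.repr v (Sum.inl i) • b (Sum.inl i) + ∑ i, b.repr v (Sum.inr i) • b (Sum.inr i) := by
    conv_lhs => rw [h1]
    rw [map_add, map_sum, map_sum, ← Finset.sum_neg_distrib]
    congr 1
    · apply Finset.sum_congr rfl
      intro i _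
      rw [map_smul, hgl, smul_neg]
    · apply Finset.sum_congr rfl
      intro i _
      rw [map_smul, hgr]
  rw [hv] at h3
  have h4 : v = ∑ i, b.repr v (Sum.inr i) • b (Sum.inr i) := by
    have aux : ∀ L R w : Fin n → F, w = L + R → w = -L + R → w = R := by
      intro L R w e1 e2
      have e3 : L = -L := by
        have : L + R = -L + R := by rw [← e1, ← e2]
        exact add_right_cancel this
      rw [e1, zero_of_neg h2 e3, zero_add]
    exact aux _ _ v h1 h3
  rw [h4, map_sum, Finset.smul_sum]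
  apply Finset.sum_congr rfl
  intro i _
  rw [map_smul, hxr, smul_comm]

/-- **No `D₄` configuration in `PSL_n(q)`, `n ≥ 6`, `q` odd** (given the normal subgroups `K`). -/
theorem d4_false [Finite F] (hn : 6 ≤ n) (h2 : (2 : F) ≠ 0)
    {Q : Fin 3 → Subgroup (ProjectiveSpecialLinearGroup (Fin n) F)} {z : Fin 3 → ProjectiveSpecialLinearGroup (Fin n) F}
    {t : ProjectiveSpecialLinearGroup (Fin n) F} (hgood : ∀ i, Good (Q i) (z i))
    (hK : ∀ i, ∃ K : Subgroup (ProjectiveSpecialLinearGroup (Fin n) F), Q i ≤ K ∧ K ≤ centralizer {z i} ∧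
      (∀ c ∈ centralizer ({z i} : Set (ProjectiveSpecialLinearGroup (Fin n) F)), ∀ x ∈ K, c * x * c⁻¹ ∈ K) ∧
      ∀ t ∈ K, orderOf t = 2 → t = z i)
    (hcom : ∀ i j, i ≠ j → ∀ x ∈ Q i, ∀ y ∈ Q j, x * y = y * x) (hzne : ∀ i j, i ≠ j → z i ≠ z j)
    (ht : IsConj t (z 0)) (htn : ∀ i, ∀ x ∈ Q i, t * x * t⁻¹ ∈ Q i) (hnc : ∀ i, ∃ x ∈ Q i, t * x ≠ x * t) : False := by
  choose g hgz hgs hgw hgQ using fun i => lemYv hn h2 (hgood i) (hK i)
  choose w hw0 hw using hgw
  -- uniqueness of standard lifts
  have huniq : ∀ (i : Fin 3) (x : SpecialLinearGroup (Fin n) F),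
      (x : ProjectiveSpecialLinearGroup (Fin n) F) * z i = z i * x → x * g i = g i * x := by
    intro i x hx
    have h3 : ((x * g i * x⁻¹ : SpecialLinearGroup (Fin n) F) : ProjectiveSpecialLinearGroup (Fin n) F) = g i := by
      rw [QuotientGroup.mk_mul, QuotientGroup.mk_mul, QuotientGroup.mk_inv, hgz, hx, mul_inv_cancel_right]
    have h4 := Std.unique h2 (by omega) ((hgs i).conj x) (hgs i) h3
    rw [mul_inv_eq_iff_eq_mul] at h4
    exact h4
  have hzz : ∀ i, z i * z i = 1 := fun i => by
    have h3 := pow_orderOf_eq_one (z i)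
    rw [(hgood i).ord, pow_two] at h3
    exact h3
  have hz1 : ∀ i, z i ≠ 1 := fun i h1 => by
    have h3 := (hgood i).ord
    rw [h1, orderOf_one] at h3
    exact absurd h3 (by norm_num)
  -- `t` centralizes `z i`
  have htz : ∀ i, t * z i = z i * t := by
    intro i
    have h3 : t * z i * t⁻¹ = z i := by
      apply (good_struct (hgood i)).1 _ (htn i _ (hgood i).mem)
      · intro h1
        apply hz1 i
        have h4 : z i = t⁻¹ * (t * z i * t⁻¹) * t := by group
        rw [h4, h1]
        group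
      · calc t * z i * t⁻¹ * (t * z i * t⁻¹) = t * (z i * z i) * t⁻¹ := by group
          _ = 1 := by rw [hzz]; group
    rw [mul_inv_eq_iff_eq_mul] at h3
    exact h3
  -- the standard lift of `t`
  obtain ⟨c, hc⟩ := isConj_iff.1 ht
  obtain ⟨c', rfl⟩ := QuotientGroup.mk_surjective c
  let r : SpecialLinearGroup (Fin n) F := c'⁻¹ * g 0 * c'⁻¹⁻¹
  have hrt : (r : ProjectiveSpecialLinearGroup (Fin n) F) = t := by
    show ((c'⁻¹ * g 0 * c'⁻¹⁻¹ : SpecialLinearGroup (Fin n) F) : ProjectiveSpecialLinearGroup (Fin n) F) = t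
    rw [inv_inv, QuotientGroup.mk_mul, QuotientGroup.mk_mul, QuotientGroup.mk_inv, hgz, ← hc]
    group
  have hrs : Std r := (hgs 0).conj c'⁻¹
  refine false_of_lin h2 (g := g) (r := r)
    (P := fun i x => (x : ProjectiveSpecialLinearGroup (Fin n) F) ∈ Q i) hgs hrs ?_ ?_ ?_ hgQ ?_ ?_ ?_
  · intro i j hij h3
    apply hzne i j hij
    rw [← hgz, ← hgz, h3]
  · intro i j
    rcases eq_or_ne i j with rfl | hij
    · rfl
    · apply huniq
      rw [hgz]
      exact hcom i j hij _ (hgood i).mem _ (hgood j).mem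
  · intro i
    apply huniq
    rw [hrt]
    exact htz i
  · intro i j hij x hx
    apply huniq
    exact hcom i j hij _ hx _ (hgood j).mem
  · intro i
    obtain ⟨-, ⟨x, hx, y, hy, -, -, hxy⟩, -⟩ := good_struct (hgood i)
    obtain ⟨a, rfl⟩ := QuotientGroup.mk_surjective x
    obtain ⟨b, rfl⟩ := QuotientGroup.mk_surjective y
    refine ⟨a, b, hx, hy, ?_⟩
    rw [← hgz, ← QuotientGroup.mk_mul, ← QuotientGroup.mk_mul, ← QuotientGroup.mk_mul] at hxy
    obtain ⟨d, hd, hdd⟩ := mk_eq_iff'.1 hxy
    obtain ⟨e, he⟩ := act_center hd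
    obtain ⟨-, ca, hca⟩ := hgQ i a hx
    obtain ⟨-, cb, hcb⟩ := hgQ i b hy
    have hwi := hw i
    have h3 : act (a * b) (w i) = (cb * ca) • w i := by
      rw [act_mul, hcb _ hwi, map_smul, hca _ hwi, smul_smul]
    have h4 : act (g i * (b * a)) (w i) = (ca * cb) • w i := by
      rw [act_mul, act_mul, hca _ hwi, map_smul, hcb _ hwi, map_smul, map_smul, hwi, smul_smul]
    have h5 : act d (w i) = w i := by
      have h6 : act (a * b) (act d (w i)) = act (a * b) (w i) := by
        rw [← act_mul, ← hdd, h4, h3, mul_comm]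
      have h7 := congrArg (act (a * b)⁻¹) h6
      rw [← act_mul (a * b)⁻¹ (a * b), ← act_mul (a * b)⁻¹ (a * b), inv_mul_cancel, act_one, act_one] at h7
      exact h7
    have h6 : e = 1 := by
      rw [he] at h5
      have h7 : (e - 1) • w i = 0 := by rw [sub_smul, one_smul, h5, sub_self]
      exact sub_eq_zero.1 ((smul_eq_zero.1 h7).resolve_right (hw0 i))
    have h7 : d = 1 := by
      apply act_ext
      intro v
      rw [he, h6, one_smul, act_one]
    rw [hdd, h7, mul_one]
  · intro i
    obtain ⟨x, hx, hxt⟩ := hnc i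
    obtain ⟨x', rfl⟩ := QuotientGroup.mk_surjective x
    refine ⟨x', hx, fun h3 => hxt ?_⟩
    rw [← hrt, ← QuotientGroup.mk_mul, ← QuotientGroup.mk_mul, h3]

end Cfsg.Agent.H755.PF
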