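import Cfsg.Agent.H755.PF.DFour
import Cfsg.Agent.H781.GoodNormal

/-!
# The `D₄` configuration does not occur in `PSL_n(q)`, `n ≥ 6`, `q` odd: final form (helper755)
-/

set_option autoImplicit false

namespace Cfsg.Agent.H755.PF

open Matrix Subgroup
open Cfsg Cfsg.Agent.H751.Big

universe u

variable {F : Type u} [Field F] {n : ℕ}

theorem exists_normal_uniq (hF : H269.FooteStmt.{u}) {G : Type u} [Group G] [Finite G] {Q : Subgroup G} {z : G}
    (h : Good Q z) :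
    ∃ K : Subgroup G, Q ≤ K ∧ K ≤ centralizer {z} ∧
      (∀ c ∈ centralizer ({z} : Set G), ∀ x ∈ K, c * x * c⁻¹ ∈ K) ∧ ∀ t ∈ K, orderOf t = 2 → t = z := by
  obtain ⟨K, h1, h2, h3, h4⟩ := H781.GoodNormal.exists_normal hF h
  exact ⟨K, h1, h2, h3, fun t ht h5 => H781.GoodNormal.eq_of_mem h h1 h2 h4 ht h5⟩

/-- Lemma Y, final form. -/
theorem lemYw (hF : H269.FooteStmt.{u}) [Finite F] (hn : 6 ≤ n) (h2 : (2 : F) ≠ 0) {Q : Subgroup (ProjectiveSpecialLinearGroup (Fin n) F)}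
    {z : ProjectiveSpecialLinearGroup (Fin n) F} (h : Good Q z) :
    ∃ g : SpecialLinearGroup (Fin n) F, (g : ProjectiveSpecialLinearGroup (Fin n) F) = z ∧ Std g ∧
      (∃ w, w ≠ 0 ∧ act g w = w) ∧
      ∀ x : SpecialLinearGroup (Fin n) F, (x : ProjectiveSpecialLinearGroup (Fin n) F) ∈ Q →
        x * g = g * x ∧ ∃ c : F, ∀ v, act g v = v → act x v = c • v := by
  have : Finite (SpecialLinearGroup (Fin n) F) := Subtype.finite
  have : Finite (ProjectiveSpecialLinearGroup (Fin n) F) := inferInstanceAs (Finite (_ ⧸ _))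
  exact lemYv hn h2 h (exists_normal_uniq hF h)

/-- **No `D₄` configuration in `PSL_n(q)`, `n ≥ 6`, `q` odd.** -/
theorem no_d4 (hF : H269.FooteStmt.{u}) [Finite F] (hn : 6 ≤ n) (h2 : (2 : F) ≠ 0)
    {Q : Fin 3 → Subgroup (ProjectiveSpecialLinearGroup (Fin n) F)} {z : Fin 3 → ProjectiveSpecialLinearGroup (Fin n) F}
    {t : ProjectiveSpecialLinearGroup (Fin n) F} (hgood : ∀ i, Good (Q i) (z i))
    (hcom : ∀ i j, i ≠ j → ∀ x ∈ Q i, ∀ y ∈ Q j, x * y = y * x) (hzne : ∀ i j, i ≠ j → z i ≠ z j)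
    (ht : IsConj t (z 0)) (htn : ∀ i, ∀ x ∈ Q i, t * x * t⁻¹ ∈ Q i) (hnc : ∀ i, ∃ x ∈ Q i, t * x ≠ x * t) : False := by
  have : Finite (SpecialLinearGroup (Fin n) F) := Subtype.finite
  have : Finite (ProjectiveSpecialLinearGroup (Fin n) F) := inferInstanceAs (Finite (_ ⧸ _))
  exact d4_false hn h2 hgood (fun i => exists_normal_uniq hF (hgood i)) hcom hzne ht htn hnc

end Cfsg.Agent.H755.PF
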