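import Cfsg.Agent.H751.Big.SameFus

/-!
# Generalised quaternion groups: the elements of order 4 (helper755)
-/

set_option autoImplicit false

namespace Cfsg.Agent.H755.PF

open Subgroup Cfsg Cfsg.Agent.H751.Big

section Q

variable (n : ℕ)

/-- the involution of `QuaternionGroup n` -/
theorem xa_sq {n : ℕ} (i : ZMod (2 * n)) : QuaternionGroup.xa i * QuaternionGroup.xa i = QuaternionGroup.a (n : ZMod (2 * n)) := by
  rw [QuaternionGroup.xa_mul_xa]
  congr 1
  ring

theorem invol_quat {n : ℕ} [NeZero n] {z : QuaternionGroup n} (h1 : z ≠ 1) (h2 : z * z = 1) :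
    z = QuaternionGroup.a (n : ZMod (2 * n)) := by
  have hn : n ≠ 0 := NeZero.ne n
  have hn2 : (n : ZMod (2 * n)) ≠ 0 := by
    intro h
    rw [ZMod.natCast_eq_zero_iff] at h
    have := Nat.le_of_dvd (Nat.pos_of_ne_zero hn) h
    omega
  rcases z with i | i
  · rw [QuaternionGroup.a_mul_a, ← QuaternionGroup.a_zero (n := n)] at h2
    have h3 : i + i = 0 := by
      injection h2
    have h4 : i ≠ 0 := by
      rintro rfl
      exact h1 rfl
    -- `i = n`
    have hN : NeZero (2 * n) := ⟨by omega⟩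
    have h5 : ((i.val + i.val : ℕ) : ZMod (2 * n)) = 0 := by
      push_cast
      rw [ZMod.natCast_zmod_val]
      exact h3
    rw [ZMod.natCast_eq_zero_iff] at h5
    have h6 : i.val < 2 * n := ZMod.val_lt i
    have h7 : i.val ≠ 0 := fun h => h4 ((ZMod.val_eq_zero i).1 h)
    obtain ⟨k, hk⟩ := h5
    have hk1 : k = 1 := by
      have h8 : 2 * n * k < 2 * n * 2 := by omega
      have h9 : k < 2 := lt_of_mul_lt_mul_left h8 (Nat.zero_le _)
      have h10 : k ≠ 0 := by
        rintro rfl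
        omega
      omega
    subst hk1
    have h8 : i.val = n := by omega
    have h9 : i = ((n : ℕ) : ZMod (2 * n)) :=
      (ZMod.natCast_zmod_val i).symm.trans (congrArg (fun t : ℕ => (t : ZMod (2 * n))) h8)
    exact congrArg QuaternionGroup.a h9
  · exfalso
    rw [xa_sq, ← QuaternionGroup.a_zero (n := n)] at h2
    apply hn2
    injection h2

end Q

variable {G : Type*} [Group G] {Q : Subgroup G} {z : G}

/-- The elements of order 4 of a good quaternion subgroup. -/
theorem good_struct (h : Good Q z) :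
    (∀ w ∈ Q, w ≠ 1 → w * w = 1 → w = z) ∧
    (∃ x ∈ Q, ∃ y ∈ Q, x * x = z ∧ y * y = z ∧ x * y = z * (y * x)) ∧
    (∀ q ∈ Q, q * q = z ∨ ∃ s ∈ Q, ∃ t ∈ Q, s * s = z ∧ t * t = z ∧ q = s * t) := by
  obtain ⟨m, ⟨e⟩⟩ := h.quat
  have hNe : NeZero (2 ^ (m + 1)) := ⟨by positivity⟩
  have hz1 : z ≠ 1 := by
    intro h1
    have h2 := h.ord
    rw [h1, orderOf_one] at h2
    exact absurd h2 (by norm_num)
  have hzz : z * z = 1 := by
    have h2 := pow_orderOf_eq_one z
    rw [h.ord, pow_two] at h2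
    exact h2
  have key : ∀ w (hw : w ∈ Q), w ≠ 1 → w * w = 1 →
      e ⟨w, hw⟩ = QuaternionGroup.a ((2 ^ (m + 1) : ℕ) : ZMod (2 * 2 ^ (m + 1))) := by
    intro w hw hw1 hw2
    apply invol_quat
    · intro h1
      apply hw1
      have h2 : (⟨w, hw⟩ : Q) = 1 := e.injective (by rw [h1, map_one])
      exact congrArg Subtype.val h2
    · rw [← map_mul]
      have h2 : (⟨w, hw⟩ * ⟨w, hw⟩ : Q) = 1 := Subtype.ext hw2
      rw [h2, map_one]
  have hez := key z h.mem hz1 hzz
  -- read off from the image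
  have hval : ∀ (u v : QuaternionGroup (2 ^ (m + 1))), u = v → ((e.symm u : Q) : G) = (e.symm v : Q) := by
    rintro u v rfl
    rfl
  have hzsymm : ((e.symm (QuaternionGroup.a ((2 ^ (m + 1) : ℕ) : ZMod (2 * 2 ^ (m + 1)))) : Q) : G) = z := by
    rw [← hez, MulEquiv.symm_apply_apply]
  have hmul : ∀ u v : QuaternionGroup (2 ^ (m + 1)), ((e.symm (u * v) : Q) : G) = (e.symm u : Q) * (e.symm v : Q) := by
    intro u v
    rw [map_mul]
    rfl
  refine ⟨?_, ?_, ?_⟩
  · intro w hw hw1 hw2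
    have h1 := key w hw hw1 hw2
    have h2 : (⟨w, hw⟩ : Q) = ⟨z, h.mem⟩ := e.injective (by rw [h1, hez])
    exact congrArg Subtype.val h2
  · refine ⟨_, (e.symm (QuaternionGroup.xa 0)).2, _, (e.symm (QuaternionGroup.a ((2 ^ m : ℕ) : ZMod (2 * 2 ^ (m + 1))))).2, ?_, ?_, ?_⟩
    · rw [← hmul, xa_sq, hzsymm]
    · rw [← hmul, QuaternionGroup.a_mul_a, ← hzsymm]
      apply hval
      congr 1
      push_cast
      ring
    · conv_rhs => rw [← hzsymm]
      rw [← hmul, ← hmul, ← hmul]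
      apply hval
      rw [QuaternionGroup.xa_mul_a, QuaternionGroup.a_mul_xa, QuaternionGroup.a_mul_xa]
      congr 1
      have h2 : ((2 * 2 ^ (m + 1) : ℕ) : ZMod (2 * 2 ^ (m + 1))) = 0 := ZMod.natCast_self _
      push_cast at h2 ⊢
      linear_combination h2
  · intro q hq
    have hq' : q = ((e.symm (e ⟨q, hq⟩) : Q) : G) := by rw [MulEquiv.symm_apply_apply]
    rcases he : e ⟨q, hq⟩ with i | i
    · right
      refine ⟨_, (e.symm (QuaternionGroup.xa 0)).2, _,
        (e.symm (QuaternionGroup.xa (i - ((2 ^ (m + 1) : ℕ) : ZMod (2 * 2 ^ (m + 1)))))).2, ?_, ?_, ?_⟩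
      · rw [← hmul, xa_sq, hzsymm]
      · rw [← hmul, xa_sq, hzsymm]
      · rw [hq', he, ← hmul]
        apply hval
        rw [QuaternionGroup.xa_mul_xa]
        congr 1
        ring
    · left
      rw [hq', he, ← hmul, xa_sq, hzsymm]

end Cfsg.Agent.H755.PF
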