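import Cfsg.Agent.H755.PF.Bas
import Cfsg.Agent.H755.PF.Quat

/-!
# Good quaternion subgroups of `PSL_n(q)`, `n ≥ 6`, `q` odd, are standard (helper755)

`lemY` : `z` is the image of an involution `g` whose `(-1)`-eigenspace has dimension 2, and the elements over `Q` are
block diagonal and scalar on the `1`-eigenspace of `g`.
-/

set_option autoImplicit false

namespace Cfsg.Agent.H755.PF

open Matrix Subgroup
open Cfsg Cfsg.Agent.H751.Big

section Grp

variable {X : Type*} [Group X]

theorem commute_of_sq {q g c : X} (hc : c ∈ center X) (h : q * q = g * c) : q * g = g * q := by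
  have hc' : ∀ y, y * c = c * y := mem_center_iff.1 hc
  have h1 : q * (g * c) = (g * c) * q := by rw [← h, mul_assoc]
  have h2 : (q * g) * c = (g * q) * c := by
    calc (q * g) * c = q * (g * c) := mul_assoc _ _ _
      _ = (g * c) * q := h1
      _ = g * (c * q) := mul_assoc _ _ _
      _ = g * (q * c) := by rw [hc' q]
      _ = (g * q) * c := (mul_assoc _ _ _).symm
  exact mul_right_cancel h2

theorem sq_eq_one {x y g c : X} (hc : c ∈ center X) (hx : x * x = g * c) (hy : y * g = g * y)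
    (h : x * y = g * (y * x)) : g * g = 1 := by
  have hc' : ∀ y, y * c = c * y := mem_center_iff.1 hc
  have hxg := commute_of_sq hc hx
  have h1 : (x * x) * y = (g * g) * (y * (x * x)) := by
    calc (x * x) * y = x * (x * y) := mul_assoc _ _ _
      _ = x * (g * (y * x)) := by rw [h]
      _ = (x * g) * (y * x) := (mul_assoc _ _ _).symm
      _ = (g * x) * (y * x) := by rw [hxg]
      _ = g * ((x * y) * x) := by group
      _ = g * ((g * (y * x)) * x) := by rw [h]
      _ = (g * g) * (y * (x * x)) := by group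
  have h2 : (x * x) * y = y * (x * x) := by
    rw [hx]
    calc g * c * y = g * (c * y) := mul_assoc _ _ _
      _ = g * (y * c) := by rw [hc' y]
      _ = (g * y) * c := (mul_assoc _ _ _).symm
      _ = (y * g) * c := by rw [hy]
      _ = y * (g * c) := mul_assoc _ _ _
  rw [h2] at h1
  have h3 : (g * g) * (y * (x * x)) = 1 * (y * (x * x)) := by rw [one_mul]; exact h1.symm
  exact mul_right_cancel h3

theorem mk_eq_iff' {x y : X} : ((x : X ⧸ center X) = y) ↔ ∃ c ∈ center X, y = x * c := by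
  rw [QuotientGroup.eq]
  constructor
  · intro h
    exact ⟨_, h, by group⟩
  · rintro ⟨c, hc, rfl⟩
    have : x⁻¹ * (x * c) = c := by group
    rwa [this]

end Grp

variable {F : Type*} [Field F] {n : ℕ}

theorem mat_of_center {ι : Type*} [Fintype ι] [DecidableEq ι] (b : Module.Basis ι F (Fin n → F))
    {x : SpecialLinearGroup (Fin n) F} (hx : x ∈ center (SpecialLinearGroup (Fin n) F)) :
    ∃ c : F, mat b x = c • (1 : Matrix ι ι F) := by
  obtain ⟨r, -, hr⟩ := Matrix.SpecialLinearGroup.mem_center_iff.1 hx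
  refine ⟨r, ?_⟩
  unfold mat
  have h1 : Matrix.toLin' x.1 = r • (LinearMap.id : (Fin n → F) →ₗ[F] (Fin n → F)) := by
    have h3 : x.1 = r • (1 : Matrix (Fin n) (Fin n) F) := by
      rw [← hr, Matrix.smul_one_eq_diagonal]
      rfl
    rw [h3, map_smul, Matrix.toLin'_one]
  rw [h1, map_smul, LinearMap.toMatrix_id]

theorem center_of_mat {ι : Type*} [Fintype ι] [DecidableEq ι] (b : Module.Basis ι F (Fin n → F))
    {x : SpecialLinearGroup (Fin n) F} {c : F} (hx : mat b x = c • (1 : Matrix ι ι F)) :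
    x ∈ center (SpecialLinearGroup (Fin n) F) := by
  rw [mem_center_iff]
  intro y
  apply mat_injective b
  rw [mat_mul, mat_mul, hx]
  simp

/-- the diagonal element with `-1` at two places -/
def dg {l : ℕ} (i j : Fin l) (hij : i ≠ j) : SpecialLinearGroup (Fin l) F :=
  ⟨Matrix.diagonal (fun a => if a = i ∨ a = j then (-1 : F) else 1), by
    rw [Matrix.det_diagonal, Finset.prod_ite, Finset.prod_const_one, mul_one, Finset.prod_const, Finset.filter_or,
      Finset.filter_eq', Finset.filter_eq', if_pos (Finset.mem_univ _), if_pos (Finset.mem_univ _),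
      Finset.card_union_of_disjoint (by simpa using hij), Finset.card_singleton, Finset.card_singleton]
    norm_num⟩

theorem dg_sq {l : ℕ} (i j : Fin l) (hij : i ≠ j) : (dg i j hij : SpecialLinearGroup (Fin l) F) * dg i j hij = 1 := by
  apply Subtype.ext
  show Matrix.diagonal _ * Matrix.diagonal _ = (1 : Matrix (Fin l) (Fin l) F)
  rw [Matrix.diagonal_mul_diagonal, ← Matrix.diagonal_one]
  congr 1
  funext a
  split_ifs <;> norm_num

/-- The block `SL_l(F)` has a four-group modulo scalars. -/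
theorem exists_notMem (h2 : (2 : F) ≠ 0) {κ : Type*} [Fintype κ] [DecidableEq κ] {l : ℕ}
    (b : Module.Basis (κ ⊕ Fin l) F (Fin n → F)) (hl : 3 ≤ l)
    {K : Subgroup (ProjectiveSpecialLinearGroup (Fin n) F)} {z : ProjectiveSpecialLinearGroup (Fin n) F}
    (hK : ∀ t ∈ K, orderOf t = 2 → t = z) :
    ∃ Y, jmap b Y ∉ K.comap (QuotientGroup.mk' (center (SpecialLinearGroup (Fin n) F))) := by
  by_contra hno
  push Not at hno
  let i0 : Fin l := ⟨0, by omega⟩
  let i1 : Fin l := ⟨1, by omega⟩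
  let i2 : Fin l := ⟨2, by omega⟩
  have h01 : i0 ≠ i1 := by simp [i0, i1]
  have h12 : i1 ≠ i2 := by simp [i1, i2]
  have h02 : i0 ≠ i2 := by simp [i0, i2]
  have hm1 : (-1 : F) ≠ 1 := by
    intro h
    apply h2
    have : (1 : F) + 1 = 0 := by
      nth_rewrite 1 [← h]
      exact neg_add_cancel 1
    rw [← one_add_one_eq_two]
    exact this
  -- a block in the centre is scalar
  have hcen : ∀ Y : SpecialLinearGroup (Fin l) F, jmap b Y ∈ center (SpecialLinearGroup (Fin n) F) →
      ∃ c : F, ∀ a, Y.1 a a = c := by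
    intro Y hY
    obtain ⟨c, hc⟩ := mat_of_center b hY
    rw [mat_jmap] at hc
    refine ⟨c, fun a => ?_⟩
    have h3 := congrFun (congrFun hc (Sum.inr a)) (Sum.inr a)
    simpa using h3
  have key : ∀ (i j : Fin l) (hij : i ≠ j) (m : Fin l), m ≠ i → m ≠ j →
      ((jmap b (dg i j hij) : SpecialLinearGroup (Fin n) F) : ProjectiveSpecialLinearGroup (Fin n) F) = z := by
    intro i j hij m hmi hmj
    have hmem : ((jmap b (dg i j hij) : SpecialLinearGroup (Fin n) F) : ProjectiveSpecialLinearGroup (Fin n) F) ∈ K := hno _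
    refine hK _ hmem (orderOf_eq_prime ?_ ?_)
    · rw [pow_two, ← QuotientGroup.mk_mul, ← jmap_mul, dg_sq, jmap_one, QuotientGroup.mk_one]
    · intro h1
      rw [QuotientGroup.eq_one_iff] at h1
      obtain ⟨c, hc⟩ := hcen _ h1
      have h3 := hc i
      have h4 := hc m
      rw [← h4] at h3
      have h5 : (dg i j hij : SpecialLinearGroup (Fin l) F).1 i i = -1 := by
        show Matrix.diagonal _ i i = _
        rw [Matrix.diagonal_apply_eq, if_pos (Or.inl rfl)]
      have h6 : (dg i j hij : SpecialLinearGroup (Fin l) F).1 m m = 1 := by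
        show Matrix.diagonal _ m m = _
        rw [Matrix.diagonal_apply_eq, if_neg (by tauto)]
      rw [h5, h6] at h3
      exact hm1 h3
  have e1 := key i0 i1 h01 i2 h02.symm h12.symm
  have e2 := key i1 i2 h12 i0 h01 h02
  rw [← e2, mk_eq_iff'] at e1
  obtain ⟨c, hc, hce⟩ := e1
  have h3 : c = jmap b ((dg i0 i1 h01)⁻¹ * dg i1 i2 h12) := by
    rw [jmap_mul, jmap_inv, hce]
    group
  rw [h3] at hc
  obtain ⟨d, hd⟩ := hcen _ hc
  have h4 : (dg i0 i1 h01 : SpecialLinearGroup (Fin l) F)⁻¹ = dg i0 i1 h01 := by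
    rw [inv_eq_iff_mul_eq_one]
    exact dg_sq i0 i1 h01
  rw [h4] at hd
  have h5 : ∀ a, ((dg i0 i1 h01 : SpecialLinearGroup (Fin l) F) * dg i1 i2 h12).1 a a =
      (if a = i0 ∨ a = i1 then (-1 : F) else 1) * (if a = i1 ∨ a = i2 then (-1 : F) else 1) := by
    intro a
    show (Matrix.diagonal _ * Matrix.diagonal _ : Matrix (Fin l) (Fin l) F) a a = _
    rw [Matrix.diagonal_mul_diagonal, Matrix.diagonal_apply_eq]
  have h6 := hd i0
  have h7 := hd i1
  rw [h5] at h6 h7
  rw [if_pos (Or.inl rfl), if_neg (by simp [h01, h02])] at h6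
  rw [if_pos (Or.inr rfl), if_pos (Or.inl rfl)] at h7
  rw [← h7] at h6
  apply hm1
  linear_combination h6

/-- **Lemma Y** -/
theorem lemY [Finite F] (hn : 6 ≤ n) (h2 : (2 : F) ≠ 0) {Q : Subgroup (ProjectiveSpecialLinearGroup (Fin n) F)}
    {z : ProjectiveSpecialLinearGroup (Fin n) F} (h : Good Q z)
    (hK : ∃ K : Subgroup (ProjectiveSpecialLinearGroup (Fin n) F), Q ≤ K ∧ K ≤ centralizer {z} ∧
      (∀ c ∈ centralizer ({z} : Set (ProjectiveSpecialLinearGroup (Fin n) F)), ∀ x ∈ K, c * x * c⁻¹ ∈ K) ∧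
      ∀ t ∈ K, orderOf t = 2 → t = z) :
    ∃ (g : SpecialLinearGroup (Fin n) F) (l : ℕ) (b : Module.Basis (Fin 2 ⊕ Fin l) F (Fin n → F)), 2 + l = n ∧
      (g : ProjectiveSpecialLinearGroup (Fin n) F) = z ∧ mat b g = fromBlocks (-1) 0 0 1 ∧
      ∀ x : SpecialLinearGroup (Fin n) F, (x : ProjectiveSpecialLinearGroup (Fin n) F) ∈ Q →
        ∃ (A : Matrix (Fin 2) (Fin 2) F) (c : F), mat b x = fromBlocks A 0 0 (c • (1 : Matrix (Fin l) (Fin l) F)) := by
  obtain ⟨K, hQK, hKz, hKn, hKu⟩ := hK
  obtain ⟨-, ⟨x, hx, y, hy, hxx, hyy, hxy⟩, hgen⟩ := good_struct h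
  have hz1 : z ≠ 1 := by
    intro h1
    have h3 := h.ord
    rw [h1, orderOf_one] at h3
    exact absurd h3 (by norm_num)
  obtain ⟨x', rfl⟩ := QuotientGroup.mk_surjective x
  obtain ⟨y', rfl⟩ := QuotientGroup.mk_surjective y
  -- the lift of `z`
  let g : SpecialLinearGroup (Fin n) F := x' * y' * (y' * x')⁻¹
  have hgz : (g : ProjectiveSpecialLinearGroup (Fin n) F) = z := by
    show ((x' * y' * (y' * x')⁻¹ : SpecialLinearGroup (Fin n) F) : ProjectiveSpecialLinearGroup (Fin n) F) = z
    rw [QuotientGroup.mk_mul, QuotientGroup.mk_mul, QuotientGroup.mk_inv, QuotientGroup.mk_mul, hxy, mul_inv_cancel_right]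
  have hgxy : x' * y' = g * (y' * x') := by
    show x' * y' = x' * y' * (y' * x')⁻¹ * (y' * x')
    group
  -- elements with square `z`
  have hsq : ∀ q' : SpecialLinearGroup (Fin n) F,
      (q' : ProjectiveSpecialLinearGroup (Fin n) F) * (q' : ProjectiveSpecialLinearGroup (Fin n) F) = z →
      ∃ c ∈ center (SpecialLinearGroup (Fin n) F), q' * q' = g * c := by
    intro q' hq'
    rw [← QuotientGroup.mk_mul, ← hgz] at hq'
    exact mk_eq_iff'.1 hq'.symm
  obtain ⟨c, hc, hxc⟩ := hsq x' hxx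
  obtain ⟨d, hd, hyd⟩ := hsq y' hyy
  have hyg : y' * g = g * y' := commute_of_sq hd hyd
  have hg2 : g * g = 1 := sq_eq_one hc hxc hyg hgxy
  -- every lift of an element of `Q` commutes with `g`
  have hcom : ∀ q' : SpecialLinearGroup (Fin n) F, (q' : ProjectiveSpecialLinearGroup (Fin n) F) ∈ Q →
      q' * g = g * q' := by
    intro q' hq'
    rcases hgen _ hq' with h3 | ⟨s, hs, t, ht, hss, htt, hst⟩
    · obtain ⟨e, he, hqe⟩ := hsq q' h3
      exact commute_of_sq he hqe
    · obtain ⟨s', rfl⟩ := QuotientGroup.mk_surjective s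
      obtain ⟨t', rfl⟩ := QuotientGroup.mk_surjective t
      obtain ⟨e, he, hqe⟩ := hsq s' hss
      obtain ⟨e', he', hqe'⟩ := hsq t' htt
      have h4 := commute_of_sq he hqe
      have h5 := commute_of_sq he' hqe'
      rw [← QuotientGroup.mk_mul] at hst
      obtain ⟨f, hf, hqf⟩ := mk_eq_iff'.1 hst.symm
      rw [hqf]
      have hf' : ∀ y, y * f = f * y := mem_center_iff.1 hf
      calc s' * t' * f * g = s' * t' * (f * g) := mul_assoc _ _ _
        _ = s' * t' * (g * f) := by rw [hf' g]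
        _ = s' * (t' * g) * f := by group
        _ = s' * (g * t') * f := by rw [h5]
        _ = (s' * g) * t' * f := by group
        _ = (g * s') * t' * f := by rw [h4]
        _ = g * (s' * t' * f) := by group
  obtain ⟨k, l, b, hkl, hb⟩ := exists_basis h2 hg2
  -- the preimage of `K`
  let N : Subgroup (SpecialLinearGroup (Fin n) F) := K.comap (QuotientGroup.mk' (center (SpecialLinearGroup (Fin n) F)))
  have hN : ∀ c, c * g = g * c → ∀ x ∈ N, c * x * c⁻¹ ∈ N := by
    intro c hc x hx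
    show ((c * x * c⁻¹ : SpecialLinearGroup (Fin n) F) : ProjectiveSpecialLinearGroup (Fin n) F) ∈ K
    rw [QuotientGroup.mk_mul, QuotientGroup.mk_mul, QuotientGroup.mk_inv]
    refine hKn _ ?_ _ hx
    rw [mem_centralizer_singleton_iff, ← hgz, ← QuotientGroup.mk_mul, hc, QuotientGroup.mk_mul]
  have hscal : ∀ q' : SpecialLinearGroup (Fin n) F, (q' : ProjectiveSpecialLinearGroup (Fin n) F) ∈ Q →
      ∀ A D, mat b q' = fromBlocks A 0 0 D → (l ≠ 2 → ∃ c : F, D = c • (1 : Matrix (Fin l) (Fin l) F)) ∧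
        (k ≠ 2 → ∃ c : F, A = c • (1 : Matrix (Fin k) (Fin k) F)) := by
    intro q' hq' A D hAD
    constructor
    · intro hl2
      rcases lt_or_ge l 3 with hl | hl
      · rcases (by omega : l = 0 ∨ l = 1) with rfl | rfl
        · exact ⟨0, by ext i; exact i.elim0⟩
        · refine ⟨D 0 0, ?_⟩
          ext i j
          rw [Subsingleton.elim i 0, Subsingleton.elim j 0]
          simp
      · exact core b hl N (fun c hc => hN c (commute_of_bd hb hc)) (exists_notMem h2 b hl hKu)
          (show (q' : ProjectiveSpecialLinearGroup (Fin n) F) ∈ K from hQK hq') hAD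
    · intro hk2
      rcases lt_or_ge k 3 with hk | hk
      · rcases (by omega : k = 0 ∨ k = 1) with rfl | rfl
        · exact ⟨0, by ext i; exact i.elim0⟩
        · refine ⟨A 0 0, ?_⟩
          ext i j
          rw [Subsingleton.elim i 0, Subsingleton.elim j 0]
          simp
      · exact core (swp b) hk N (fun c hc => hN c (commute_of_bd hb (bd_swp hc))) (exists_notMem h2 (swp b) hk hKu)
          (show (q' : ProjectiveSpecialLinearGroup (Fin n) F) ∈ K from hQK hq') (mat_swp b q' hAD)
  have hbd : ∀ q' : SpecialLinearGroup (Fin n) F, (q' : ProjectiveSpecialLinearGroup (Fin n) F) ∈ Q →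
      ∃ A D, mat b q' = fromBlocks A 0 0 D := fun q' hq' => bd_of_commute h2 hb (hcom q' hq')
  by_cases hk2 : k = 2
  · subst hk2
    refine ⟨g, l, b, hkl, hgz, hb, fun q' hq' => ?_⟩
    obtain ⟨A, D, hAD⟩ := hbd q' hq'
    obtain ⟨e, he⟩ := (hscal q' hq' A D hAD).1 (by omega)
    exact ⟨A, e, by rw [hAD, he]⟩
  by_cases hl2 : l = 2
  · subst hl2
    -- replace `g` by `-g`
    let g' : SpecialLinearGroup (Fin n) F := ofMat b (fromBlocks 1 0 0 (-1)) (by
      rw [det_fromBlocks_zero₁₂, det_one, one_mul, Matrix.det_neg, det_one, Fintype.card_fin]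
      norm_num)
    have hg'm : mat b g' = fromBlocks 1 0 0 (-1) := mat_ofMat b _ _
    have hgg' : (g' : ProjectiveSpecialLinearGroup (Fin n) F) = z := by
      rw [← hgz, mk_eq_iff']
      refine ⟨g'⁻¹ * g, ?_, by group⟩
      apply center_of_mat b (c := -1)
      have h3 : g' * g' = 1 := by
        apply mat_injective b
        rw [mat_mul, mat_one, hg'm, fromBlocks_multiply, ← fromBlocks_one]
        simp
      have h4 : g'⁻¹ = g' := inv_eq_of_mul_eq_one_left h3
      rw [h4, mat_mul, hg'm, hb, fromBlocks_multiply, ← fromBlocks_one, fromBlocks_smul]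
      simp
    refine ⟨g', k, swp b, by omega, hgg', mat_swp b g' hg'm, fun q' hq' => ?_⟩
    obtain ⟨A, D, hAD⟩ := hbd q' hq'
    obtain ⟨e, he⟩ := (hscal q' hq' A D hAD).2 hk2
    exact ⟨D, e, by rw [mat_swp b q' hAD, he]⟩
  -- otherwise `Q` is abelian
  exfalso
  obtain ⟨A, D, hAD⟩ := hbd x' hx
  obtain ⟨A', D', hAD'⟩ := hbd y' hy
  obtain ⟨e1, he1⟩ := (hscal x' hx A D hAD).1 hl2
  obtain ⟨e2, he2⟩ := (hscal x' hx A D hAD).2 hk2
  have hxy' : x' * y' = y' * x' := by
    apply mat_injective b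
    rw [mat_mul, mat_mul, hAD, hAD', fromBlocks_multiply, fromBlocks_multiply, he1, he2]
    simp
  apply hz1
  rw [← QuotientGroup.mk_mul, ← QuotientGroup.mk_mul, hxy'] at hxy
  exact (mul_eq_right.1 hxy.symm)

end Cfsg.Agent.H755.PF
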